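import Groth.Agent.L08.GQuot.Struct
import Groth.Agent.L08.GQuot.Field
import Groth.Agent.L08.NormalQuot.Affine
import Groth.Agent.L08.Borel.PreimageField
import Groth.Agent.L08.Chev.Comp
import Groth.Agent.L25.RedField.Unipotent
import Groth.Agent.L25.RedField.Chars
import Groth.Agent.L14.Luna.Radical
import Groth.Agent.L14.Luna.Cor
import Groth.Agent.L14.RankOne.PowHom
import Groth.Agent.S3280

/-!
# Quotients by normal subgroups and characters of groups with unipotent radical
-/

set_option autoImplicit false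
set_option backward.isDefEq.respectTransparency.types false
set_option linter.style.haveILetI false
set_option linter.unusedSectionVars false
set_option maxHeartbeats 1000000

universe u

open CategoryTheory CategoryTheory.Limits MonoidalCategory CartesianMonoidalCategory MonObj GrpObj AlgebraicGeometry
open Groth.L08.Borel Groth.L14.Luna Groth.L15.GenSub

noncomputable section

namespace Groth.L16.RadQuot

variable {k : Type u} [Field k]

local notation "U1" => 𝟙_ (Over (Spec (CommRingCat.of k)))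
local notation "SK" => Spec (CommRingCat.of k)

/-- The quotient of an affine smooth connected group by a closed normal subgroup. -/
theorem exists_normal_quotient {G N : Over SK} [GrpObj G] [GrpObj N] [IsAffine G.left] [Smooth G.hom]
    [ConnectedSpace G.left] (n : N ⟶ G) [IsMonHom n] [IsClosedImmersion n.left] (hn : AlgGrp.IsNormalHom n) :
    ∃ (Q : Over SK) (_ : GrpObj Q) (q : G ⟶ Q), IsMonHom q ∧ IsAffine Q.left ∧ Smooth Q.hom ∧
      ConnectedSpace Q.left ∧ Surjective q.left ∧ Flat q.left ∧ AlgGrp.IsKernel n q := by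
  haveI : LocallyOfFiniteType G.hom := inferInstance
  haveI : QuasiCompact G.hom := quasiCompact_of_compactSpace _
  haveI : Mono n := Over.mono_of_mono_left n
  haveI : LocallyOfFiniteType N.hom := by rw [← Over.w n]; infer_instance
  haveI : QuasiCompact N.hom := by rw [← Over.w n]; infer_instance
  obtain ⟨Y, p, _, _, _, sqp⟩ := Groth.L08.GQuot.exists_quotient_field n
  obtain ⟨Q, q, _, _, _, sqq, hlft, -, -, hsm, -⟩ := Groth.L08.GQuot.exists_struct p sqp
  obtain ⟨gQ, hq, hker⟩ := Groth.L08.GQuot.exists_grp hn q sqq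
  haveI := hlft inferInstance
  exact ⟨Q, gQ, q, hq, Groth.L08.NormalQuot.isAffine_of_surjective_hom q, hsm inferInstance,
    q.left.surjective.connectedSpace q.left.continuous, inferInstance, inferInstance, hker⟩

/-- The kernel contains what dies in the quotient. -/
theorem kerLe_of_isKernel {G N Q : Over SK} [GrpObj G] [GrpObj N] [GrpObj Q] {n : N ⟶ G} {q : G ⟶ Q}
    (h : AlgGrp.IsKernel n q) : KerLe q n := by
  intro X z hz
  obtain ⟨w, hw, -⟩ := h.exists_lift z (toUnit X) (by rw [hz, Hom.one_def])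
  exact ⟨w, hw⟩

variable [IsAlgClosed k]

/-- A conjugation-stable subgroup on points is normal. -/
theorem isNormalHom_of_points {G P : Over SK} [GrpObj G] [GrpObj P] [Smooth G.hom] [Smooth P.hom] (r : P ⟶ G)
    [IsClosedImmersion r.left] (h : ∀ g : U1 ⟶ G, ∃ c : P ⟶ P, c ≫ r = AGF.conjBy g r) :
    AlgGrp.IsNormalHom r := by
  intro X g y
  let Z := G ⊗ P
  haveI : Smooth Z.hom := inferInstanceAs (Smooth (pullback.fst G.hom P.hom ≫ G.hom))
  haveI : IsReduced Z.left := Groth.Agent.AV.isReduced_of_smooth_field Z.hom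
  haveI : LocallyOfFiniteType Z.hom := inferInstance
  obtain ⟨c, hc⟩ := exists_lift_of_points r (fst G P * (snd G P ≫ r) * (fst G P)⁻¹) fun z => by
    obtain ⟨c, hc⟩ := h (z ≫ fst G P)
    refine ⟨(z ≫ snd G P) ≫ c, ?_⟩
    rw [Category.assoc, hc, comp_conjBy]
    simp [AGF.conjBy, toUnit_unique (toUnit U1) (𝟙 _), MonObj.comp_mul, GrpObj.comp_inv]
  refine ⟨lift g y ≫ c, ?_⟩
  rw [Category.assoc, hc]
  simp [MonObj.comp_mul, GrpObj.comp_inv]

/-- A normal connected solvable subgroup lies in every Borel subgroup. -/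
theorem solvable_le_borel {G R : Over SK} [GrpObj G] [GrpObj R] [IsAffine G.left] [Smooth G.hom] [QuasiCompact G.hom]
    [ConnectedSpace G.left] (r : R ⟶ G) [IsMonHom r] [IsClosedImmersion r.left] [Smooth R.hom]
    [ConnectedSpace R.left] (hR : Red.IsSolvableGrp R) (hn : AlgGrp.IsNormalHom r)
    {B : Over SK} [GrpObj B] {b : B ⟶ G} (hB : Red.IsBorelOver k b) : ∃ f : R ⟶ B, f ≫ b = r := by
  obtain ⟨B₀, gB₀, b₀, hB₀, f, hf⟩ := exists_borel_ge r hR
  obtain ⟨g, φ, hφ⟩ := exists_borel_conj hB₀ hB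
  let γ : R ⟶ G := toUnit R ≫ g
  obtain ⟨y', hy'⟩ := hn R γ⁻¹ (𝟙 R)
  refine ⟨y' ≫ f ≫ φ.hom, ?_⟩
  rw [Category.assoc, Category.assoc, hφ, AGF.conjBy]
  simp only [MonObj.comp_mul, GrpObj.comp_inv, ← Category.assoc, comp_toUnit, hf, ← hy', Category.id_comp]
  show γ * (γ⁻¹ * r * γ⁻¹⁻¹) * γ⁻¹ = r
  group

/-- A group all whose points are trivial is trivial. -/
theorem isTrivialGrp_of_pts {G N : Over SK} [GrpObj G] [GrpObj N] [LocallyOfFiniteType G.hom] [Smooth N.hom]
    (n : N ⟶ G) [IsMonHom n] [IsClosedImmersion n.left] (h : ∀ x : U1 ⟶ N, x ≫ n = 1) : Red.IsTrivialGrp N := by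
  haveI : Mono n := Over.mono_of_mono_left n
  haveI : IsReduced N.left := Groth.Agent.AV.isReduced_of_smooth_field N.hom
  haveI := Groth.L08.AbelianGrp.isSeparated G
  refine isTrivialGrp_of_id_eq_one ?_
  have e : n = 1 := hom_ext_pts n 1 fun x => by rw [h x, MonObj.comp_one]
  rw [← cancel_mono n, Category.id_comp, MonObj.one_comp]
  exact e

/-- A normal connected solvable subgroup of a quotient lifts to a normal connected solvable subgroup. -/
theorem exists_normal_preimage {K U Q N : Over SK} [GrpObj K] [GrpObj U] [GrpObj Q] [GrpObj N] [IsAffine K.left]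
    [Smooth K.hom] [ConnectedSpace K.left] [Smooth Q.hom] [QuasiCompact Q.hom] [ConnectedSpace Q.left]
    (u : U ⟶ K) [IsMonHom u] [IsClosedImmersion u.left] [Smooth U.hom] [ConnectedSpace U.left]
    (hUs : Red.IsSolvableGrp U) (hun : AlgGrp.IsNormalHom u)
    (q : K ⟶ Q) [IsMonHom q] [Surjective q.left] (hq : AlgGrp.IsKernel u q)
    (n : N ⟶ Q) [IsMonHom n] [IsClosedImmersion n.left] [Smooth N.hom] [ConnectedSpace N.left]
    (hNs : Red.IsSolvableGrp N) (hnn : AlgGrp.IsNormalHom n) :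
    ∃ (P : Over SK) (_ : GrpObj P) (r : P ⟶ K) (p : P ⟶ N), IsMonHom r ∧ IsClosedImmersion r.left ∧ Smooth P.hom ∧
      ConnectedSpace P.left ∧ Red.IsSolvableGrp P ∧ AlgGrp.IsNormalHom r ∧ Surjective p.left ∧ p ≫ n = r ≫ q := by
  haveI : QuasiCompact K.hom := quasiCompact_of_compactSpace _
  obtain ⟨B₀, gB₀, b₀, hB₀, -⟩ := exists_borel_ge u hUs
  have hK := kerLe_of_radical q u hUs (fun X g x => hun X g x) (kerLe_of_isKernel hq) B₀ b₀ hB₀
  obtain ⟨P, gP, r, p, hr, hp, hrc, hPs, hPc, hPsol, hps, he, huniv⟩ := exists_solvable_over q hB₀ hK n hNs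
  haveI := hr; haveI := hp; haveI := hrc; haveI := hPs; haveI := hPc
  refine ⟨P, gP, r, p, hr, hrc, hPs, hPc, hPsol, isNormalHom_of_points r fun g => ?_, hps, he⟩
  haveI : IsReduced P.left := Groth.Agent.AV.isReduced_of_smooth_field P.hom
  haveI := isMonHom_conjBy g r
  obtain ⟨a, ha⟩ := hnn P (toUnit P ≫ g ≫ q) p
  refine huniv P (AGF.conjBy g r) a ?_
  rw [← ha, he]
  simp only [AGF.conjBy, MonObj.mul_comp, GrpObj.inv_comp, Category.assoc]

/-- A connected group all whose normal connected solvable subgroups are unipotent has no characters. -/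
theorem char_eq_one {K : Over SK} [GrpObj K] [IsAffine K.left] [Smooth K.hom] [ConnectedSpace K.left]
    (hK : ∀ (R : Over SK) [GrpObj R] (r : R ⟶ K) [IsMonHom r], IsClosedImmersion r.left → Smooth R.hom →
      ConnectedSpace R.left → AlgGrp.IsNormalHom r → Red.IsSolvableGrp R → Red.HasNoSubtorus k R)
    (χ : K ⟶ Red.Gm SK) [IsMonHom χ] : χ = 1 := by
  obtain ⟨U, gU, u, hU⟩ := Groth.L25.RedField.exists_unipotentRadical K
  obtain ⟨hum, huc, hun, hus, hucon, huns⟩ := unipotentRadical_data hU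
  haveI := hum; haveI := huc; haveI := hus; haveI := hucon
  haveI : IsAffine U.left := isAffine_of_isAffineHom u.left
  haveI : QuasiCompact K.hom := quasiCompact_of_compactSpace _
  haveI : QuasiCompact U.hom := quasiCompact_of_compactSpace _
  have hUsol := isSolvableGrp_of_noSubtorus U huns
  obtain ⟨Q, gQ, q, hq, hQa, hQs, hQc, hqs, hqf, hker⟩ := exists_normal_quotient u hun
  haveI := hq; haveI := hQa; haveI := hQs; haveI := hQc; haveI := hqs; haveI := hqf
  haveI : QuasiCompact Q.hom := quasiCompact_of_compactSpace _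
  have triv : ∀ (N : Over SK) [GrpObj N] (n : N ⟶ Q) [IsMonHom n], IsClosedImmersion n.left → Smooth N.hom →
      ConnectedSpace N.left → AlgGrp.IsNormalHom n → Red.IsSolvableGrp N → Red.IsTrivialGrp N := by
    intro N _ n _ hnc hNs hNc hnn hNsol
    haveI := hnc; haveI := hNs; haveI := hNc
    obtain ⟨P, gP, r, p, hr, hrc, hPs, hPc, hPsol, hPn, hps, he⟩ := exists_normal_preimage u hUsol hun q hker n hNsol hnn
    haveI := hr; haveI := hrc; haveI := hPs; haveI := hPc; haveI := hps
    haveI : IsAffine P.left := isAffine_of_isAffineHom r.left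
    haveI : QuasiCompact P.hom := quasiCompact_of_compactSpace _
    obtain ⟨f, hf⟩ := exists_factor_unipotentRadical hU r hPn hPc (hK P r hrc hPs hPc hPn hPsol)
    refine isTrivialGrp_of_pts n fun x => ?_
    obtain ⟨y, rfl⟩ := exists_pt_lift p x (p.left.surjective _)
    have huq : u ≫ q = 1 := by rw [hker.w, Hom.one_def]
    rw [Category.assoc, he, ← hf, Category.assoc, huq, MonObj.comp_one, MonObj.comp_one]
  have hss : Red.IsSemisimpleOver k Q := by
    refine ⟨⟨hQa, hQs, hQc, fun N _ n _ hnc hNs hNc hnn hns => ?_⟩, fun N _ n _ hnc hnn hT => ?_⟩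
    · haveI := hnc; haveI := hNs; haveI := hNc
      haveI : IsAffine N.left := isAffine_of_isAffineHom n.left
      exact triv N n hnc hNs hNc hnn (isSolvableGrp_of_noSubtorus N hns)
    · obtain ⟨hTa, hTs, hTc, hTsol, -⟩ := torus_props hT
      exact triv N n hnc hTs hTc hnn hTsol
  have hGm : Red.IsTorus (Red.Gm SK) := Groth.L14.RankOne.isTorus_gm
  obtain ⟨hGa, hGs, -, -, -⟩ := torus_props hGm
  haveI := hGa; haveI := hGs
  haveI : QuasiCompact (Red.Gm SK).hom := quasiCompact_of_compactSpace _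
  have hu1 : u ≫ χ = toUnit U ≫ η[Red.Gm SK] := by
    rw [hom_torus_eq_one hUsol huns hGm (u ≫ χ), Hom.one_def]
  obtain ⟨χ', hχ', hfac, -⟩ := Groth.Agent.S3280.result k K U Q (Red.Gm SK) q u hker χ hu1
  haveI := hχ'
  rw [← hfac, Groth.L25.RedField.hom_Gm_eq_one hss χ', MonObj.comp_one]

/-- A normal connected solvable subgroup of a normal connected subgroup lies in a normal connected solvable
subgroup. -/
theorem exists_normal_over_of_normal {H K R : Over SK} [GrpObj H] [GrpObj K] [GrpObj R] [IsAffine H.left]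
    [Smooth H.hom] [Smooth K.hom] [ConnectedSpace K.left] (j : K ⟶ H) [IsMonHom j] [IsClosedImmersion j.left]
    (hj : AlgGrp.IsNormalHom j) (r : R ⟶ K) [IsMonHom r] [IsClosedImmersion r.left]
    [Smooth R.hom] [ConnectedSpace R.left] (hR : Red.IsSolvableGrp R) (hn : AlgGrp.IsNormalHom r) :
    ∃ (M : Over SK) (_ : GrpObj M) (m : M ⟶ H), IsMonHom m ∧ IsClosedImmersion m.left ∧ Smooth M.hom ∧
      ConnectedSpace M.left ∧ AlgGrp.IsNormalHom m ∧ Red.IsSolvableGrp M ∧
      ∃ f : R ⟶ M, IsMonHom f ∧ Mono f ∧ f ≫ m = r ≫ j := by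
  haveI : IsAffine K.left := isAffine_of_isAffineHom j.left
  haveI : Mono j := Over.mono_of_mono_left j
  haveI : QuasiCompact H.hom := quasiCompact_of_compactSpace _
  haveI : QuasiCompact K.hom := quasiCompact_of_compactSpace _
  haveI : LocallyOfFiniteType H.hom := inferInstance
  haveI : LocallyOfFiniteType R.hom := inferInstance
  let X := H ⊗ R
  let f : X ⟶ H := fst H R * (snd H R ≫ r ≫ j) * (fst H R)⁻¹
  have hf : ∀ {Y : Over SK} (z : Y ⟶ X),
      z ≫ f = (z ≫ fst H R) * ((z ≫ snd H R) ≫ r ≫ j) * (z ≫ fst H R)⁻¹ := fun {Y} z => by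
    simp only [f, MonObj.comp_mul, GrpObj.comp_inv, Category.assoc]
  haveI : Smooth X.hom := inferInstanceAs (Smooth (pullback.fst H.hom R.hom ≫ H.hom))
  haveI : LocallyOfFiniteType X.hom := inferInstance
  haveI : IsReduced X.left := Groth.Agent.AV.isReduced_of_smooth_field X.hom
  haveI := Groth.L16.SecComp.geometricallyReduced_of_smooth X.hom
  obtain ⟨M', gM', m', hm, hmc, ⟨f', hf'⟩, hgred, hmin, h, hh, hdom⟩ := exists_generated f
  haveI := hm; haveI := hmc; haveI := hgred
  haveI : Mono m' := Over.mono_of_mono_left m'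
  haveI hMred : IsReduced M'.left :=
    @dom_isReduced _ _ _ _ hdom fun l => (redProd_WObj l.down).isReduced
  haveI : LocallyOfFiniteType M'.hom := by rw [← Over.w m']; infer_instance
  haveI : IsAffine M'.left := isAffine_of_isAffineHom m'.left
  haveI : Smooth M'.hom := smooth_of_reduced_group M'
  -- conjugation invariance
  have hconj : ∀ g : U1 ⟶ H, ∃ c : M' ⟶ M', c ≫ m' = AGF.conjBy g m' := by
    intro g
    haveI := isMonHom_conjBy g⁻¹ m'
    haveI := isClosedImmersion_conjBy g⁻¹ m'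
    obtain ⟨c, hc⟩ := hmin M' gM' (AGF.conjBy g⁻¹ m') inferInstance inferInstance
      ⟨lift ((toUnit X ≫ g) * fst H R) (snd H R) ≫ f', by
        rw [comp_conjBy, Category.assoc, hf', hf, lift_fst, lift_snd]
        simp only [AGF.conjBy, f, GrpObj.comp_inv, _root_.mul_inv_rev, _root_.inv_inv]
        group⟩
    refine ⟨c, ?_⟩
    rw [comp_conjBy] at hc
    conv_rhs => rw [← hc]
    rw [conjBy_conjBy, mul_inv_cancel, conjBy_one]
  have hnorm' : AlgGrp.IsNormalHom m' := isNormalHom_of_points m' hconj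
  -- solvability
  obtain ⟨B, gB, b, hB⟩ := exists_borel K
  haveI := hB.1; haveI := hB.2.1; haveI := hB.2.2.1; haveI := hB.2.2.2.1
  haveI : IsClosedImmersion (b ≫ j).left := inferInstanceAs (IsClosedImmersion (b.left ≫ j.left))
  have haut : ∀ g : U1 ⟶ H, ∃ c : K ⟶ K, IsMonHom c ∧ c ≫ j = AGF.conjBy g j := by
    intro g
    haveI := isMonHom_conjBy g j
    obtain ⟨c, hc⟩ := hj K (toUnit K ≫ g) (𝟙 K)
    have hc' : c ≫ j = AGF.conjBy g j := by rw [← hc, Category.id_comp]
    exact ⟨c, isMonHom_of_comp_mono c j _ hc', hc'⟩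
  have hin : ∀ z : U1 ⟶ X, ∃ y : U1 ⟶ B, y ≫ b ≫ j = z ≫ f := by
    intro z
    obtain ⟨c, hcm, hc⟩ := haut (z ≫ fst H R)
    obtain ⟨c', hcm', hc'⟩ := haut (z ≫ fst H R)⁻¹
    haveI := hcm; haveI := hcm'
    have h1 : c ≫ c' = 𝟙 K := by
      rw [← cancel_mono j, Category.assoc, hc', comp_conjBy, hc, conjBy_conjBy, inv_mul_cancel, conjBy_one,
        Category.id_comp]
    have h2 : c' ≫ c = 𝟙 K := by
      rw [← cancel_mono j, Category.assoc, hc, comp_conjBy, hc', conjBy_conjBy, mul_inv_cancel, conjBy_one,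
        Category.id_comp]
    haveI : IsIso c := ⟨c', h1, h2⟩
    haveI : IsIso c.left := inferInstanceAs (IsIso ((Over.forget _).map c))
    haveI : IsClosedImmersion (r ≫ c).left := inferInstanceAs (IsClosedImmersion (r.left ≫ c.left))
    have hn' : AlgGrp.IsNormalHom (r ≫ c) := fun Y g y => by
      obtain ⟨y', hy'⟩ := hn Y (g ≫ c') y
      refine ⟨y', ?_⟩
      have e := congrArg (fun t => t ≫ c) hy'
      simp only [MonObj.mul_comp, GrpObj.inv_comp, Category.assoc, h2, Category.comp_id] at e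
      exact e
    obtain ⟨e, he⟩ := solvable_le_borel (r ≫ c) hR hn' hB
    refine ⟨(z ≫ snd H R) ≫ e, ?_⟩
    rw [Category.assoc, reassoc_of% he, hc, comp_conjBy, pt_conjBy, hf]
  obtain ⟨fB, hfB⟩ := exists_lift_of_points (b ≫ j) f hin
  obtain ⟨t, ht⟩ := hmin B gB (b ≫ j) inferInstance inferInstance ⟨fB, hfB⟩
  haveI : Mono (b ≫ j) := Over.mono_of_mono_left _
  haveI : IsMonHom t := isMonHom_of_comp_mono t (b ≫ j) m' ht
  haveI : Mono (t ≫ b ≫ j) := ht ▸ (inferInstance : Mono m')
  haveI : Mono t := mono_of_mono t (b ≫ j)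
  have hM'sol : Red.IsSolvableGrp M' := isSolvableGrp_of_mono t hB.2.2.2.2.1
  -- the identity component
  obtain ⟨M, gM, j₀, hj₀⟩ := Groth.L08.Chev.exists_idComp M'
  haveI := hj₀.hom; haveI := hj₀.closedImm; haveI := hj₀.connectedSpace; haveI := hj₀.smooth
  haveI : Mono j₀ := Over.mono_of_mono_left j₀
  haveI : IsClosedImmersion (j₀ ≫ m').left := inferInstanceAs (IsClosedImmersion (j₀.left ≫ m'.left))
  have hnorm : AlgGrp.IsNormalHom (j₀ ≫ m') := isNormalHom_of_points (j₀ ≫ m') fun g => by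
    obtain ⟨c, hc⟩ := hconj g
    haveI := isMonHom_conjBy g m'
    haveI : IsMonHom c := isMonHom_of_comp_mono c m' _ hc
    obtain ⟨w, hw⟩ := hj₀.exists_lift_hom (j₀ ≫ c)
    exact ⟨w, by rw [reassoc_of% hw, hc, comp_conjBy]⟩
  let l : R ⟶ M' := lift 1 (𝟙 R) ≫ f'
  have hl : l ≫ m' = r ≫ j := by
    rw [Category.assoc, hf', hf, lift_fst, lift_snd]; simp
  haveI : IsMonHom l := isMonHom_of_comp_mono l m' (r ≫ j) hl
  obtain ⟨w, hw⟩ := hj₀.exists_lift_hom l
  haveI : IsMonHom w := isMonHom_of_comp_mono w j₀ l hw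
  haveI : Mono r := Over.mono_of_mono_left r
  haveI : Mono (w ≫ j₀ ≫ m') := by rw [reassoc_of% hw, hl]; infer_instance
  exact ⟨M, gM, j₀ ≫ m', inferInstance, inferInstance, inferInstance, inferInstance, hnorm,
    isSolvableGrp_of_mono j₀ hM'sol, w, inferInstance, mono_of_mono w (j₀ ≫ m'), by rw [reassoc_of% hw, hl]⟩

/-- A normal connected solvable subgroup of the identity component lies in a normal connected solvable subgroup. -/
theorem exists_normal_over {H K R : Over SK} [GrpObj H] [GrpObj K] [GrpObj R] [IsAffine H.left] [Smooth H.hom]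
    {j : K ⟶ H} (hj : Groth.L08.Chev.IdCompData j) (r : R ⟶ K) [IsMonHom r] [IsClosedImmersion r.left]
    [Smooth R.hom] [ConnectedSpace R.left] (hR : Red.IsSolvableGrp R) (hn : AlgGrp.IsNormalHom r) :
    ∃ (M : Over SK) (_ : GrpObj M) (m : M ⟶ H), IsMonHom m ∧ IsClosedImmersion m.left ∧ Smooth M.hom ∧
      ConnectedSpace M.left ∧ AlgGrp.IsNormalHom m ∧ Red.IsSolvableGrp M ∧
      ∃ f : R ⟶ M, IsMonHom f ∧ Mono f ∧ f ≫ m = r ≫ j := by
  haveI := hj.hom; haveI := hj.closedImm; haveI := hj.connectedSpace; haveI := hj.smooth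
  refine exists_normal_over_of_normal j (isNormalHom_of_points j fun g => ?_) r hR hn
  haveI := isMonHom_conjBy g j
  exact hj.exists_lift_hom (AGF.conjBy g j)

/-- A group without non-trivial normal connected solvable subgroups is semisimple. -/
theorem isSemisimpleOver_of_forall {Q : Over SK} [GrpObj Q] [IsAffine Q.left] [Smooth Q.hom] [ConnectedSpace Q.left]
    (triv : ∀ (N : Over SK) [GrpObj N] (n : N ⟶ Q) [IsMonHom n], IsClosedImmersion n.left → Smooth N.hom →
      ConnectedSpace N.left → AlgGrp.IsNormalHom n → Red.IsSolvableGrp N → Red.IsTrivialGrp N) :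
    Red.IsSemisimpleOver k Q := by
  refine ⟨⟨inferInstance, inferInstance, inferInstance, fun N _ n _ hnc hNs hNc hnn hns => ?_⟩,
    fun N _ n _ hnc hnn hT => ?_⟩
  · haveI := hnc; haveI := hNs; haveI := hNc
    haveI : IsAffine N.left := isAffine_of_isAffineHom n.left
    exact triv N n hnc hNs hNc hnn (isSolvableGrp_of_noSubtorus N hns)
  · obtain ⟨hTa, hTs, hTc, hTsol, -⟩ := torus_props hT
    exact triv N n hnc hTs hTc hnn hTsol

end Groth.L16.RadQuot
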