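import Groth.Agent.L16.RadQuot.Main
import Groth.Agent.L25.Observable.Semi
import Groth.Agent.L25.Observable.Consequences
import Groth.Agent.L25.Observable.GL
import Groth.Agent.L25.Observable.Extend

/-!
# Observability and the radical
-/

set_option autoImplicit false
set_option backward.isDefEq.respectTransparency.types false
set_option linter.style.haveILetI false
set_option linter.unusedSectionVars false
set_option maxHeartbeats 1000000

universe u

open CategoryTheory CategoryTheory.Limits MonoidalCategory CartesianMonoidalCategory MonObj GrpObj AlgebraicGeometry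
open Groth.L25.Observable WithConv
open scoped TensorProduct

noncomputable section

namespace Groth.L16.RadQuot

variable {k : Type u} [Field k] [IsAlgClosed k]

local notation "SK" => Spec (CommRingCat.of k)

/-- A normal connected subgroup of a connected group is observable. -/
theorem observable_of_normal {K R : Over SK} [GrpObj K] [GrpObj R] [IsAffine K.left] [Smooth K.hom]
    [ConnectedSpace K.left] [Smooth R.hom] (r : R ⟶ K) [IsMonHom r] [IsClosedImmersion r.left]
    (hn : AlgGrp.IsNormalHom r) : AGF.IsObservableIn k r := by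
  haveI : IsAffine R.left := isAffine_of_isAffineHom r.left
  obtain ⟨A, _, _, ψ, _, _, _, _⟩ := exists_chart K
  obtain ⟨Q, gQ, q, hq, hQa, hQs, -, -, -, hker⟩ := exists_normal_quotient r hn
  haveI := hq; haveI := hQa; haveI := hQs
  obtain ⟨B, _, _, φ, _, _, _, _⟩ := exists_chart Q
  rw [observable_iff ψ r]
  intro g hg
  have hrq : r ≫ q = 1 := by rw [hker.w, Hom.one_def]
  have key : g ≫ q = (1 : VecGrp.pt k k ⟶ Q) := by
    refine ev_injective φ (congrArg toConv (AlgHom.ext fun b => ?_))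
    obtain ⟨a, ha⟩ := fn_surjective ψ (q.left.appTop (fn φ b))
    have hval : ∀ x : VecGrp.pt k k ⟶ K, (ev ψ x).ofConv a = (ev φ (x ≫ q)).ofConv b := fun x => by
      rw [← val_fn, ← val_fn, ha, val_comp]
    have h1 := hg a (fun x t => by
      rw [hval, hval, MonObj.mul_comp, Category.assoc, hrq, MonObj.comp_one, _root_.mul_one]) 1
    rw [hval, hval, _root_.one_mul, MonObj.one_comp] at h1
    exact h1
  obtain ⟨z, hz, -⟩ := hker.exists_lift g (toUnit _) (by rw [key, Hom.one_def])
  exact ⟨z, hz⟩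

/-- Every character killing the largest normal connected solvable subgroup is trivial. -/
theorem char_eq_one_of_kills {K R : Over SK} [GrpObj K] [GrpObj R] [IsAffine K.left] [Smooth K.hom]
    [ConnectedSpace K.left] (r : R ⟶ K) [IsMonHom r] [IsClosedImmersion r.left] [Smooth R.hom] [ConnectedSpace R.left]
    (hn : AlgGrp.IsNormalHom r) (hR : Red.IsSolvableGrp R)
    (hmax : ∀ (N : Over SK) [GrpObj N] (n : N ⟶ K) [IsMonHom n], IsClosedImmersion n.left → Smooth N.hom →
      ConnectedSpace N.left → AlgGrp.IsNormalHom n → Red.IsSolvableGrp N → ∃ f : N ⟶ R, f ≫ r = n)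
    (χ : K ⟶ Red.Gm SK) [IsMonHom χ] (h : r ≫ χ = 1) : χ = 1 := by
  haveI : IsAffine R.left := isAffine_of_isAffineHom r.left
  haveI : QuasiCompact K.hom := quasiCompact_of_compactSpace _
  haveI : QuasiCompact R.hom := quasiCompact_of_compactSpace _
  obtain ⟨Q, gQ, q, hq, hQa, hQs, hQc, hqs, hqf, hker⟩ := exists_normal_quotient r hn
  haveI := hq; haveI := hQa; haveI := hQs; haveI := hQc; haveI := hqs; haveI := hqf
  haveI : QuasiCompact Q.hom := quasiCompact_of_compactSpace _
  obtain ⟨hGa, hGs, -, -, -⟩ := Groth.L08.Borel.torus_props (Groth.L14.RankOne.isTorus_gm (S := SK))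
  haveI := hGa; haveI := hGs
  haveI : QuasiCompact (Red.Gm SK).hom := quasiCompact_of_compactSpace _
  obtain ⟨χ', hχ', hfac, -⟩ := Groth.Agent.S3280.result k K R Q (Red.Gm SK) q r hker χ (by rw [h, Hom.one_def])
  haveI := hχ'
  have hχ1 : χ' = 1 := by
    refine char_eq_one (fun N _ n _ hnc hNs hNc hnn hNsol => ?_) χ'
    haveI := hnc; haveI := hNs; haveI := hNc
    obtain ⟨P, gP, p₁, p, hp₁, hpc, hPs, hPc, hPsol, hPn, hps, he⟩ :=
      exists_normal_preimage r hR hn q hker n hNsol hnn
    haveI := hp₁; haveI := hps; haveI := hPs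
    obtain ⟨f, hf⟩ := hmax P p₁ hpc hPs hPc hPn hPsol
    have htriv : Red.IsTrivialGrp N := isTrivialGrp_of_pts n fun x => by
      obtain ⟨y, rfl⟩ := Groth.L08.Borel.exists_pt_lift p x (p.left.surjective _)
      have hrq : r ≫ q = 1 := by rw [hker.w, Hom.one_def]
      rw [Category.assoc, he, ← hf, Category.assoc, hrq, MonObj.comp_one, MonObj.comp_one]
    intro T _ t _ _ _
    haveI : IsIso N.hom := htriv
    haveI : IsIso ((Over.forget _).map (toUnit N)) := (inferInstance : IsIso N.hom)
    haveI : IsIso (toUnit N) := isIso_of_reflects_iso (toUnit N) (Over.forget _)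
    refine Groth.L14.Luna.isTrivialGrp_of_id_eq_one ?_
    rw [← cancel_mono t, ← cancel_mono (toUnit N)]
    exact toUnit_unique _ _
  rw [← hfac, hχ1, MonObj.comp_one]

theorem hom_Gm_ext {R : Over SK} [IsAffine R.left] [Smooth R.hom] {α : R ⟶ Red.Gm SK}
    (h : ∀ z : VecGrp.pt k k ⟶ R, VecGrp.chiVal α z = 1) : α = 1 := by
  refine (GmPts.equiv R).injective (Units.ext (eq_of_forall_val fun z => ?_))
  rw [GmPts.equiv_apply, GmPts.equiv_apply, GmPts.unitOfPt_one, Units.val_one, val_one, ← chiVal_eq, h]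

variable {G : Over (Spec (CommRingCat.of k))} [GrpObj G] {A : Type u} [CommRing A] [HopfAlgebra k A] (ψ : G ⟶ Sp k A) [IsMonHom ψ]
  [IsIso ψ] [_root_.IsReduced A] [Algebra.FiniteType k A] [IsAffine G.left] [Smooth G.hom]

/-- The right translates of a function span a finite-dimensional space. -/
theorem exists_finite_Rt (a : A) : ∃ U : Submodule k A, Module.Finite k U ∧ ∀ x : A →ₐ[k] k, Rt x a ∈ U := by
  classical
  obtain ⟨S, hS⟩ := TensorProduct.exists_finset (Coalgebra.comul (R := k) a)
  refine ⟨Submodule.span k ↑(S.image Prod.fst), FiniteDimensional.span_finset k _, fun x => ?_⟩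
  rw [Rt, AlgHom.comp_apply, AlgHom.comp_apply, Bialgebra.comulAlgHom_apply, hS, map_sum, map_sum]
  refine sum_mem fun p hp => ?_
  rw [Algebra.TensorProduct.map_tmul]
  simp only [AlgHom.id_apply]
  exact Submodule.smul_mem _ _ (Submodule.subset_span (Finset.mem_image_of_mem _ hp))

include ψ in
/-- If the radical is observable, so is the group. -/
theorem observable_of_radical {K R : Over SK} [GrpObj K] [GrpObj R] [Smooth K.hom]
    [ConnectedSpace K.left] (i : K ⟶ G) [IsMonHom i] [IsClosedImmersion i.left]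
    (r : R ⟶ K) [IsMonHom r] [IsClosedImmersion r.left] [Smooth R.hom] [ConnectedSpace R.left]
    (hn : AlgGrp.IsNormalHom r) (hR : Red.IsSolvableGrp R)
    (hmax : ∀ (N : Over SK) [GrpObj N] (n : N ⟶ K) [IsMonHom n], IsClosedImmersion n.left → Smooth N.hom →
      ConnectedSpace N.left → AlgGrp.IsNormalHom n → Red.IsSolvableGrp N → ∃ f : N ⟶ R, f ≫ r = n)
    (hobs : AGF.IsObservableIn k (r ≫ i)) : AGF.IsObservableIn k i := by
  classical
  haveI : IsAffine K.left := isAffine_of_isAffineHom i.left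
  haveI : IsAffine R.left := isAffine_of_isAffineHom r.left
  haveI : IsClosedImmersion (r ≫ i).left := inferInstanceAs (IsClosedImmersion (r.left ≫ i.left))
  refine observable_of_negPow ψ i fun χ hχ f hf0 hf => ?_
  haveI := hχ
  have hrχ : ∀ z : VecGrp.pt k k ⟶ R, VecGrp.chiVal (r ≫ χ) z = VecGrp.chiVal χ (z ≫ r) := fun z => by
    show _ = (Scheme.ΓSpecIso (CommRingCat.of k)).hom (Red.gmFn ((z ≫ r) ≫ χ))
    rw [Category.assoc]
    rfl
  obtain ⟨f₀, hf₀0, hf₀⟩ := (observable_iff_semi ψ (r ≫ i)).1 hobs (r ≫ χ) inferInstance f hf0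
    (fun x z => by rw [hrχ, ← Category.assoc]; exact hf x _)
  obtain ⟨f₁, hf₁, hf₁1⟩ := hf₀.exists_normalized hf₀0
  obtain ⟨f₂, hf₂, hf₂1⟩ := hf.exists_normalized hf0
  have hne : ∀ t : VecGrp.pt k k ⟶ K, VecGrp.chiVal χ t ≠ 0 := fun t => (chiVal_inv_eq χ t).1
  let c : (VecGrp.pt k k ⟶ R) → k := fun z => (VecGrp.chiVal χ (z ≫ r))⁻¹
  have hc : Semi ψ (r ≫ i) c f₁ := hf₁.congr fun z => by
    rw [(chiVal_inv_eq (r ≫ χ) z).2, hrχ]
  let T : (VecGrp.pt k k ⟶ K) → (A →ₐ[k] A) := fun h => Rt (ev ψ (h ≫ i)).ofConv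
  have hT : ∀ h x (a : A), (ev ψ x).ofConv (T h a) = (ev ψ (x * (h ≫ i))).ofConv a := fun h x a => by
    rw [apply_Rt, ← ev_mul]
  let W : Submodule k A := Submodule.span k (Set.range fun h => T h f₁)
  have hTW : ∀ h, ∀ w ∈ W, T h w ∈ W := by
    intro h w hw
    induction hw using Submodule.span_induction with
    | mem _ hz =>
      obtain ⟨h', rfl⟩ := hz
      refine Submodule.subset_span ⟨h * h', eq_of_forall_ev ψ fun x => ?_⟩
      rw [hT, hT, hT, MonObj.mul_comp, _root_.mul_assoc]
    | zero => rw [map_zero]; exact zero_mem _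
    | add _ _ _ _ a b => rw [map_add]; exact add_mem a b
    | smul a _ _ b => rw [map_smul]; exact W.smul_mem a b
  have hW : ∀ w ∈ W, Semi ψ (r ≫ i) c w := by
    intro w hw
    induction hw using Submodule.span_induction with
    | mem _ hz =>
      obtain ⟨h, rfl⟩ := hz
      intro x z
      obtain ⟨z', hz'⟩ := hn _ h⁻¹ z
      rw [_root_.inv_inv] at hz'
      have e1 : x * (z ≫ r ≫ i) * (h ≫ i) = x * (h ≫ i) * (z' ≫ r ≫ i) := by
        rw [← Category.assoc z r, ← Category.assoc z' r, ← hz', MonObj.mul_comp, MonObj.mul_comp, GrpObj.inv_comp]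
        group
      have e2 : c z' = c z := by
        simp only [c]
        rw [← hz', chiVal_mul χ, chiVal_mul χ, mul_comm (VecGrp.chiVal χ h⁻¹), _root_.mul_assoc, ← chiVal_mul χ,
          inv_mul_cancel, chiVal_one χ, _root_.mul_one]
      rw [hT, hT, e1, hc, e2]
    | zero => intro x z; simp
    | add a b _ _ ha hb => intro x z; rw [map_add, map_add, ha, hb, mul_add]
    | smul a b _ hb => intro x z; rw [map_smul, map_smul, hb, smul_eq_mul, smul_eq_mul]; ring
  obtain ⟨U, hU, hUm⟩ := exists_finite_Rt (k := k) f₁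
  haveI : Module.Finite k W := Submodule.finiteDimensional_of_le (Submodule.span_le.2 (by
    rintro _ ⟨h, rfl⟩; exact hUm _) : W ≤ U)
  let b := Module.finBasis k W
  let d := Module.finrank k W
  have hd : 0 < d := by
    refine Module.finrank_pos_iff.2 ⟨⟨0, ⟨T 1 f₁, Submodule.subset_span ⟨1, rfl⟩⟩, fun e => ?_⟩⟩
    have := congrArg (ev ψ (1 : VecGrp.pt k k ⟶ G)).ofConv (congrArg Subtype.val e).symm
    rw [hT, MonObj.one_comp, _root_.mul_one, hf₁1, Submodule.coe_zero, map_zero] at this
    exact one_ne_zero this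
  let v : Fin d → A := fun l => (b l : A)
  obtain ⟨y, hy⟩ := exists_pts_det_ne_zero ψ v
    (b.linearIndependent.map' W.subtype (Submodule.ker_subtype W))
  let N : (VecGrp.pt k k ⟶ G) → Matrix (Fin d) (Fin d) k :=
    fun x => Matrix.of fun m l => (ev ψ (y m * x)).ofConv (v l)
  let M : (VecGrp.pt k k ⟶ K) → Matrix (Fin d) (Fin d) k :=
    fun h => LinearMap.toMatrix b b ((T h).toLinearMap.restrict (hTW h))
  have hNM : ∀ x h, N (x * (h ≫ i)) = N x * M h := by
    intro x h
    ext m l
    have e := congrArg (fun w : W => (ev ψ (y m * x)).ofConv (w : A))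
      (b.sum_repr ((T h).toLinearMap.restrict (hTW h) (b l)))
    simp only [Submodule.coe_sum, map_sum, Submodule.coe_smul, map_smul, LinearMap.coe_restrict_apply,
      AlgHom.toLinearMap_apply, hT] at e
    rw [Matrix.mul_apply]
    simp only [N, M, Matrix.of_apply, LinearMap.toMatrix_apply, v, ← _root_.mul_assoc, ← e, smul_eq_mul]
    exact Finset.sum_congr rfl fun _ _ => mul_comm _ _
  let F : A := (Matrix.of fun m l => L (ev ψ (y m)).ofConv (v l)).det
  have hF : ∀ x, (ev ψ x).ofConv F = (N x).det := fun x => by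
    rw [AlgHom.map_det]
    congr 1
    ext m l
    simp [N, apply_L_pt, ev_mul]
  have hF1 : (ev ψ (1 : VecGrp.pt k k ⟶ G)).ofConv F ≠ 0 := by
    rw [hF]; simpa [N] using hy
  let F₁ : A := ((ev ψ (1 : VecGrp.pt k k ⟶ G)).ofConv F)⁻¹ • F * f₂ ^ d
  let D : (VecGrp.pt k k ⟶ K) → k := fun h => (M h).det * VecGrp.chiVal χ h ^ d
  have hsemiF : Semi ψ i D F₁ := fun x h => by
    simp only [F₁, D, map_mul, map_pow, map_smul, hF, hNM, Matrix.det_mul, hf₂ x h, smul_eq_mul, mul_pow]
    ring
  have hF₁1 : (ev ψ (1 : VecGrp.pt k k ⟶ G)).ofConv F₁ = 1 := by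
    simp only [F₁, map_mul, map_pow, map_smul, hf₂1, one_pow, _root_.mul_one, smul_eq_mul]
    exact inv_mul_cancel₀ hF1
  have hDval : ∀ z, val z (i.left.appTop (fn ψ F₁)) = D z := fun z => by
    have e := hsemiF 1 z
    rw [_root_.one_mul, hF₁1, _root_.mul_one] at e
    rw [← val_comp, val_fn, e]
  obtain ⟨ω, hω, hωv⟩ := exists_char_of_fun (H := K) (i.left.appTop (fn ψ F₁))
    (by rw [← val_comp, val_fn, MonObj.one_comp, hF₁1])
    (fun z z' => by
      have e : val (z * z') (i.left.appTop (fn ψ F₁)) = D z' * val z (i.left.appTop (fn ψ F₁)) := by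
        rw [← val_comp, val_fn, MonObj.mul_comp, hsemiF, ← val_comp, val_fn]
      rw [e, hDval z', mul_comm])
  haveI := hω
  have hω1 : ω = 1 := by
    refine char_eq_one_of_kills r hn hR hmax ω (hom_Gm_ext fun z => ?_)
    show (Scheme.ΓSpecIso (CommRingCat.of k)).hom (Red.gmFn (z ≫ r ≫ ω)) = 1
    rw [← Category.assoc]
    show VecGrp.chiVal ω (z ≫ r) = 1
    have hs : (T (z ≫ r)).toLinearMap.restrict (hTW (z ≫ r)) = c z • LinearMap.id := by
      refine LinearMap.ext fun w => Subtype.ext (eq_of_forall_ev ψ fun x => ?_)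
      simp only [LinearMap.coe_restrict_apply, AlgHom.toLinearMap_apply, LinearMap.smul_apply, LinearMap.id_apply,
        Submodule.coe_smul, map_smul, hT, Category.assoc, hW w w.2 x z, smul_eq_mul]
    rw [hωv, hDval]
    simp only [D, M, hs, map_smul, LinearMap.toMatrix_id, Matrix.det_smul, Matrix.det_one, _root_.mul_one,
      Fintype.card_fin, c, inv_pow]
    exact inv_mul_cancel₀ (pow_ne_zero _ (hne _))
  refine ⟨d, ((ev ψ (1 : VecGrp.pt k k ⟶ G)).ofConv F)⁻¹ • F, hd, fun e => ?_, fun x h => ?_⟩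
  · have := congrArg (ev ψ (1 : VecGrp.pt k k ⟶ G)).ofConv e
    rw [map_smul, map_zero, smul_eq_mul, inv_mul_cancel₀ hF1] at this
    exact one_ne_zero this
  · have hD : D h = 1 := by
      rw [← hDval, ← hωv, hω1, chiVal_eq, GmPts.unitOfPt_one, Units.val_one, val_one]
    have e : (M h).det = (VecGrp.chiVal χ h)⁻¹ ^ d := by
      rw [inv_pow]; exact eq_inv_of_mul_eq_one_left hD
    simp only [map_smul, hF, hNM, Matrix.det_mul, e, smul_eq_mul]
    ring

end Groth.L16.RadQuot
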