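import Groth.Agent.L16.RadQuot.Main
import Groth.Agent.L25.RedField.Radical
import Groth.Agent.L08.Borel.ImageTorus
import Groth.Agent.L08.ChevPerf.Functorial
import Groth.Agent.S14754

/-!
# Radicals and surjective homomorphisms
-/

set_option autoImplicit false
set_option backward.isDefEq.respectTransparency.types false
set_option linter.style.haveILetI false
set_option linter.unusedSectionVars false
set_option maxHeartbeats 1000000

universe u

open CategoryTheory CategoryTheory.Limits MonoidalCategory CartesianMonoidalCategory MonObj GrpObj AlgebraicGeometry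
open Groth.L08.Borel Groth.L14.Luna

noncomputable section

namespace Groth.L16.RadQuot

variable {k : Type u} [Field k] [IsAlgClosed k]

local notation "U1" => 𝟙_ (Over (Spec (CommRingCat.of k)))
local notation "SK" => Spec (CommRingCat.of k)

/-- A homomorphism from a semisimple group onto a torus is trivial. -/
theorem torus_trivial_of_surjective {S T : Over SK} [GrpObj S] [GrpObj T] (hS : Red.IsSemisimpleOver k S)
    (hT : Red.IsTorus T) (ψ : S ⟶ T) [IsMonHom ψ] [Surjective ψ.left] : 𝟙 T = 1 := by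
  haveI := hS.1.1; haveI := hS.1.2.1
  obtain ⟨hTa, hTs, -, -, -⟩ := torus_props hT
  haveI := hTa; haveI := hTs
  haveI : LocallyOfFiniteType S.hom := inferInstance
  obtain ⟨r, ⟨eT⟩⟩ := exists_split_rank hT
  let M := Fin r → ℤ
  let e : T ⟶ Red.DS SK M := eT.hom.hom.hom
  let ei : Red.DS SK M ⟶ T := eT.inv.hom.hom
  have hee : e ≫ ei = 𝟙 T := congrArg (fun f => f.hom.hom) eT.hom_inv_id
  haveI : IsMonHom e := eT.hom.hom.isMonHom_hom
  haveI : Monoid.FG (Multiplicative M) := AddMonoid.fg_iff_mul_fg.1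
    (AddGroup.fg_iff_addMonoid_fg.1 (Module.Finite.iff_addGroup_fg.1 inferInstance))
  haveI : Monoid.FG (Multiplicative ℤ) := AddMonoid.fg_iff_mul_fg.1
    (AddGroup.fg_iff_addMonoid_fg.1 (Module.Finite.iff_addGroup_fg.1 inferInstance))
  haveI := Groth.L08.AbelianGrp.isSeparated (Red.Gm SK)
  haveI : IsReduced T.left := Groth.Agent.AV.isReduced_of_smooth_field T.hom
  have hξ : ∀ ξ : ℤ →+ M, ξ = 0 := by
    intro ξ
    let χ : T ⟶ Red.Gm SK := e ≫ Red.DSmap SK ξ
    haveI : IsMonHom (Red.DSmap SK ξ) := Groth.L25.TorusTorsion.isMonHom_DSmap SK ξ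
    haveI : IsMonHom χ := inferInstanceAs (IsMonHom (e ≫ Red.DSmap SK ξ))
    have h1 : ψ ≫ χ = 1 := Groth.L25.RedField.hom_Gm_eq_one hS (ψ ≫ χ)
    have h2 : χ = 1 := hom_ext_pts χ 1 fun x => by
      obtain ⟨y, rfl⟩ := exists_pt_lift ψ x (ψ.left.surjective _)
      rw [Category.assoc, Category.assoc, h1, MonObj.comp_one, MonObj.comp_one, MonObj.comp_one]
    refine Groth.Agent.S14754.DSmap_injective (k := k) ?_
    have hie : ei ≫ e = 𝟙 _ := congrArg (fun f => f.hom.hom) eT.inv_hom_id
    rw [Groth.Agent.S14754.DSmap_zero, ← Category.id_comp (Red.DSmap SK ξ), ← hie, Category.assoc]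
    exact (congrArg (ei ≫ ·) h2).trans (MonObj.comp_one _)
  have hM : AddMonoidHom.id M = 0 := AddMonoidHom.ext fun m => by
    have := DFunLike.congr_fun (hξ (zmultiplesHom M m)) 1
    simpa using this
  rw [← hee, ← Category.comp_id e, ← Groth.L25.TorusTorsion.DSmap_id, hM, Groth.Agent.S14754.DSmap_zero]
  haveI : IsMonHom ei := eT.inv.hom.isMonHom_hom
  simp

/-- The radical maps onto the radical of a quotient. -/
theorem radical_surjective {G Q NG NQ : Over SK} [GrpObj G] [GrpObj Q] [GrpObj NG] [GrpObj NQ] [IsAffine G.left]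
    [Smooth G.hom] [LocallyOfFiniteType Q.hom] (π : G ⟶ Q) [IsMonHom π] [Surjective π.left]
    (iG : NG ⟶ G) [IsMonHom iG] [IsClosedImmersion iG.left] [Smooth NG.hom] [ConnectedSpace NG.left]
    (hNGs : Red.IsSolvableGrp NG) (hNG : AlgGrp.IsNormalHom iG)
    (hmax : ∀ (N : Over SK) [GrpObj N] (n : N ⟶ G) [IsMonHom n], IsClosedImmersion n.left → Smooth N.hom →
      ConnectedSpace N.left → AlgGrp.IsNormalHom n → Red.IsSolvableGrp N → ∃ f : N ⟶ NG, f ≫ iG = n)
    (iQ : NQ ⟶ Q) [IsMonHom iQ] [IsClosedImmersion iQ.left] [Smooth NQ.hom] [ConnectedSpace NQ.left]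
    (hNQs : Red.IsSolvableGrp NQ) (hNQ : AlgGrp.IsNormalHom iQ)
    (f : NG ⟶ NQ) (hf : f ≫ iQ = iG ≫ π) : Surjective f.left := by
  haveI : QuasiCompact G.hom := quasiCompact_of_compactSpace _
  haveI : LocallyOfFiniteType G.hom := inferInstance
  haveI : Mono iQ := Over.mono_of_mono_left iQ
  haveI : IsAffine NG.left := isAffine_of_isAffineHom iG.left
  -- the connected preimage
  obtain ⟨gP, hj, hs⟩ := exists_grpObj_preimage π iQ
  letI := gP
  haveI := hj; haveI := hs
  haveI : IsClosedImmersion (pullback.fst π iQ).left :=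
    MorphismProperty.of_isPullback (P := @IsClosedImmersion)
      ((IsPullback.of_hasPullback π iQ).map (Over.forget _)).flip ‹_›
  haveI : Surjective (pullback.snd π iQ).left :=
    MorphismProperty.of_isPullback (P := @Surjective) ((IsPullback.of_hasPullback π iQ).map (Over.forget _)) ‹_›
  haveI : LocallyOfFiniteType (pullback π iQ).hom := by rw [← Over.w (pullback.fst π iQ)]; infer_instance
  obtain ⟨P₁, gP₁, j₁, hjm, hjc, hPs, hjs, hPfac⟩ := exists_red_subgroup (pullback π iQ)
  haveI := hjm; haveI := hjc; haveI := hPs; haveI := hjs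
  let m₁ : P₁ ⟶ G := j₁ ≫ pullback.fst π iQ
  haveI : IsMonHom m₁ := inferInstanceAs (IsMonHom (j₁ ≫ pullback.fst π iQ))
  haveI : IsClosedImmersion m₁.left :=
    inferInstanceAs (IsClosedImmersion (j₁.left ≫ (pullback.fst π iQ).left))
  haveI : QuasiCompact P₁.hom := by rw [← Over.w m₁]; infer_instance
  haveI : Mono m₁ := Over.mono_of_mono_left m₁
  let p₁ : P₁ ⟶ NQ := j₁ ≫ pullback.snd π iQ
  haveI : Surjective p₁.left := inferInstanceAs (Surjective (j₁.left ≫ (pullback.snd π iQ).left))
  obtain ⟨P, gP', r₀, hr₀⟩ := Groth.L08.Chev.exists_idComp P₁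
  haveI := hr₀.hom; haveI := hr₀.closedImm; haveI := hr₀.smooth; haveI := hr₀.connectedSpace
  have hid : Groth.L08.Chev.IdCompData (𝟙 NQ) := ⟨inferInstance, inferInstanceAs (IsClosedImmersion (𝟙 NQ.left)),
    inferInstanceAs (IsOpenImmersion (𝟙 NQ.left)), by
      rw [PreconnectedSpace.connectedComponent_eq_univ]; exact Set.range_id⟩
  obtain ⟨p, hp, hps, hpe⟩ := exists_surjective_idComp hr₀ hid p₁
  haveI := hp; haveI := hps
  rw [Category.comp_id] at hpe
  let r : P ⟶ G := r₀ ≫ m₁
  haveI : IsMonHom r := inferInstanceAs (IsMonHom (r₀ ≫ m₁))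
  haveI : IsClosedImmersion r.left := inferInstanceAs (IsClosedImmersion (r₀.left ≫ m₁.left))
  haveI : Mono r := Over.mono_of_mono_left r
  haveI : IsAffine P.left := isAffine_of_isAffineHom r.left
  have he : p ≫ iQ = r ≫ π := by
    simp only [hpe, p₁, r, m₁, Category.assoc, pullback.condition]
  have huniv : ∀ (A : Over SK) [GrpObj A] [IsReduced A.left] [ConnectedSpace A.left] (g : A ⟶ G) [IsMonHom g]
      (a : A ⟶ NQ), a ≫ iQ = g ≫ π → ∃ z, z ≫ r = g := by
    intro A _ _ _ g _ a ha
    obtain ⟨z, hz⟩ := hPfac A (pullback.lift g a ha.symm) inferInstance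
    have hz' : z ≫ m₁ = g := by rw [reassoc_of% hz, pullback.lift_fst]
    haveI : IsMonHom z := isMonHom_of_comp_mono z m₁ g hz'
    obtain ⟨w, hw⟩ := hr₀.exists_lift_hom z
    exact ⟨w, by rw [reassoc_of% hw, hz']⟩
  haveI : IsReduced P.left := Groth.Agent.AV.isReduced_of_smooth_field P.hom
  haveI : IsReduced NG.left := Groth.Agent.AV.isReduced_of_smooth_field NG.hom
  have hrn : AlgGrp.IsNormalHom r := isNormalHom_of_points r fun g => by
    haveI := isMonHom_conjBy g r
    obtain ⟨a, ha⟩ := hNQ P (toUnit P ≫ g ≫ π) p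
    refine huniv P (AGF.conjBy g r) a ?_
    rw [← ha, he]
    simp only [AGF.conjBy, MonObj.mul_comp, GrpObj.inv_comp, Category.assoc]
  obtain ⟨z, hz⟩ := huniv NG iG f hf
  haveI : IsMonHom z := isMonHom_of_comp_mono z r iG hz
  haveI : IsClosedImmersion (z.left ≫ r.left) := by rw [← Over.comp_left, hz]; infer_instance
  haveI : IsClosedImmersion z.left := IsClosedImmersion.of_comp z.left r.left
  have hzn : AlgGrp.IsNormalHom z := fun Y g y => by
    obtain ⟨y', hy'⟩ := hNG Y (g ≫ r) y
    refine ⟨y', ?_⟩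
    rw [← cancel_mono r, MonObj.mul_comp, MonObj.mul_comp, GrpObj.inv_comp, Category.assoc, hz, hy',
      Category.assoc, hz]
  have hfz : f = z ≫ p := by rw [← cancel_mono iQ, Category.assoc, he, ← Category.assoc, hz, hf]
  -- the semisimple quotient
  obtain ⟨S, gS, q, hq, hSa, hSs, hSc, hqs, hqf, hker⟩ := exists_normal_quotient z hzn
  haveI := hq; haveI := hSa; haveI := hSs; haveI := hSc; haveI := hqs; haveI := hqf
  haveI : QuasiCompact S.hom := quasiCompact_of_compactSpace _
  have hzq : z ≫ q = 1 := by rw [hker.w, Hom.one_def]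
  have hss : Red.IsSemisimpleOver k S := by
    refine isSemisimpleOver_of_forall fun N _ n _ hnc hNs hNc hnn hNsol => ?_
    haveI := hnc; haveI := hNs; haveI := hNc
    obtain ⟨P', gP'', r', p', hr', hrc', hPs', hPc', hPsol', hPn', hps', he'⟩ :=
      exists_normal_preimage z hNGs hzn q hker n hNsol hnn
    haveI := hr'; haveI := hrc'; haveI := hPs'; haveI := hPc'; haveI := hps'
    obtain ⟨M, gM, m, hm, hmc, hMs, hMc, hMn, hMsol, g, -, -, hg⟩ := exists_normal_over_of_normal r hrn r' hPsol' hPn'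
    haveI := hm
    obtain ⟨l, hl⟩ := hmax M m hmc hMs hMc hMn hMsol
    have hr'e : r' = (g ≫ l) ≫ z := by
      rw [← cancel_mono r, Category.assoc, hz, Category.assoc, hl, hg]
    refine isTrivialGrp_of_pts n fun x => ?_
    obtain ⟨y, rfl⟩ := exists_pt_lift p' x (p'.left.surjective _)
    rw [Category.assoc, he', hr'e, Category.assoc, hzq, MonObj.comp_one, MonObj.comp_one]
  -- the image of the radical
  haveI : QuasiCompact NG.hom := quasiCompact_of_compactSpace _
  haveI : LocallyOfFiniteType NQ.hom := inferInstance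
  haveI : IsAffine NQ.left := Groth.L08.NormalQuot.isAffine_of_surjective_hom p
  haveI : QuasiCompact NQ.hom := quasiCompact_of_compactSpace _
  obtain ⟨C, gC, f₀, c, hf₀, hc, hfc, hf₀s, hcc, hCs, hCc, -⟩ := exists_image_smooth (z ≫ p)
  haveI := hf₀; haveI := hc; haveI := hf₀s; haveI := hcc; haveI := hCs; haveI := hCc
  haveI : Mono c := Over.mono_of_mono_left c
  haveI : IsAffine C.left := isAffine_of_isAffineHom c.left
  have hcn : AlgGrp.IsNormalHom c := isNormalHom_of_points c fun g => by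
    haveI : IsReduced C.left := Groth.Agent.AV.isReduced_of_smooth_field C.hom
    obtain ⟨g', rfl⟩ := exists_pt_lift p g (p.left.surjective _)
    refine exists_lift_of_points c _ fun x => ?_
    obtain ⟨y, rfl⟩ := exists_pt_lift f₀ x (f₀.left.surjective _)
    obtain ⟨y', hy'⟩ := hzn U1 g' y
    refine ⟨y' ≫ f₀, ?_⟩
    rw [pt_conjBy, Category.assoc, hfc, Category.assoc, hfc, ← Category.assoc, ← Category.assoc, ← hy',
      MonObj.mul_comp, MonObj.mul_comp, GrpObj.inv_comp]
  obtain ⟨Q', gQ', q', hq', hQa, hQs, hQc, hq's, hq'f, hker'⟩ := exists_normal_quotient c hcn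
  haveI := hq'; haveI := hQa; haveI := hQs; haveI := hQc; haveI := hq's
  haveI : QuasiCompact Q'.hom := quasiCompact_of_compactSpace _
  haveI : QuasiCompact P.hom := quasiCompact_of_compactSpace _
  have hcq : c ≫ q' = 1 := by rw [hker'.w, Hom.one_def]
  have hkill : z ≫ p ≫ q' = toUnit NG ≫ η[Q'] := by
    rw [← Category.assoc, ← hfc, Category.assoc, hcq, MonObj.comp_one, Hom.one_def]
  haveI : IsMonHom (p ≫ q') := inferInstance
  obtain ⟨ψ, hψ, hψfac, -⟩ := Groth.Agent.S3280.result k P NG S Q' q z hker (p ≫ q') hkill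
  haveI := hψ
  haveI : Surjective (q.left ≫ ψ.left) := by
    rw [← Over.comp_left, hψfac, Over.comp_left]; infer_instance
  haveI : Surjective ψ.left := Surjective.of_comp q.left ψ.left
  have hred : Red.IsReductiveOver k Q' := Groth.L25.RedField.isReductiveOver_of_surjective hss.1 ψ
  have hQsol : Red.IsSolvableGrp Q' := isSolvableGrp_of_pts (by
    haveI : Group.IsSolvable (U1 ⟶ NQ) := isSolvable_pts hNQs
    exact Group.isSolvable_of_surjective (f := MonoidHom.mk' (fun x : U1 ⟶ NQ => x ≫ q')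
      fun x y => MonObj.mul_comp x y q') fun x => exists_pt_lift q' x (q'.left.surjective _))
  haveI : IsClosedImmersion (𝟙 Q' : Q' ⟶ Q').left := inferInstanceAs (IsClosedImmersion (𝟙 Q'.left))
  have htor : Red.IsTorus Q' :=
    (Groth.L25.RedField.normal_solvable_central_torus hred (𝟙 Q') (fun X g x => ⟨g * x * g⁻¹, by simp⟩) hQsol).1
  have hone := torus_trivial_of_surjective hss htor ψ
  haveI : IsReduced NQ.left := Groth.Agent.AV.isReduced_of_smooth_field NQ.hom
  obtain ⟨l, hl⟩ := exists_lift_of_points c (𝟙 NQ) fun x => by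
    have hx : x ≫ q' = 1 := by rw [← Category.comp_id q', hone, MonObj.comp_one, MonObj.comp_one]
    obtain ⟨y, hy, -⟩ := hker'.exists_lift x (toUnit _) (by rw [hx, Hom.one_def])
    exact ⟨y, by rw [hy, Category.comp_id]⟩
  haveI : Surjective c.left := by
    haveI : Surjective (l.left ≫ c.left) := by rw [← Over.comp_left, hl, Over.id_left]; infer_instance
    exact Surjective.of_comp l.left c.left
  rw [hfz, ← hfc, Over.comp_left]
  infer_instance

end Groth.L16.RadQuot
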